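import Mathlib
import Groth.Agent.Lib.Helper5.AdicLim.A

set_option autoImplicit false
universe u v

namespace Groth.Agent.Lib.Helper5.AdicLimFin

open AdicCompletion

section
variable {A : Type u} [CommRing A] (I : Ideal A) (L : Type v) [AddCommGroup L] [Module A L]

/-- `AdicCompletion I L` is finite over `Â` when `L / I L` is finite over `A`. -/
theorem finite_adicCompletion_hat [Module.Finite A (L ⧸ (I • ⊤ : Submodule A L))] :
    Module.Finite (AdicCompletion I A) (AdicCompletion I L) := by
  obtain ⟨r, g, hg⟩ := Module.Finite.exists_fin' A (L ⧸ (I • ⊤ : Submodule A L))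
  obtain ⟨h, hh⟩ := Module.projective_lifting_property (I • ⊤ : Submodule A L).mkQ g
    (Submodule.mkQ_surjective _)
  have hs : Function.Surjective ((I • ⊤ : Submodule A L).mkQ ∘ₗ h) := by
    rw [hh]; exact hg
  have hmap := AdicCompletion.map_surjective_of_mkQ_comp_surjective (I := I) hs
  haveI : Module.Finite (AdicCompletion I A) (AdicCompletion I (Fin r → A)) :=
    Module.Finite.equiv (AdicCompletion.piEquivFin I r).symm
  exact Module.Finite.of_surjective (AdicCompletion.map I h) hmap

variable [Module (AdicCompletion I A) L] [IsScalarTower A (AdicCompletion I A) L]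

include I in
theorem smul_mem_pow_smul_top (n : ℕ) (c : AdicCompletion I A)
    (hc : c ∈ (I ^ n • ⊤ : Submodule A (AdicCompletion I A))) (x : L) :
    c • x ∈ (I ^ n • ⊤ : Submodule A L) := by
  refine Submodule.smul_induction_on hc ?_ ?_
  · intro r hr d _
    rw [smul_assoc]
    exact Submodule.smul_mem_smul hr trivial
  · intro a b ha hb
    rw [add_smul]
    exact Submodule.add_mem _ ha hb

theorem of_smul (hI : I.FG) (c : AdicCompletion I A) (x : L) :
    AdicCompletion.of I L (c • x) = c • AdicCompletion.of I L x := by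
  ext n
  rw [AdicCompletion.smul_eval]
  obtain ⟨a, ha⟩ := Ideal.Quotient.mk_surjective (c.val n)
  have h1 : c - algebraMap A (AdicCompletion I A) a ∈
      (I ^ n • ⊤ : Submodule A (AdicCompletion I A)) := by
    rw [AdicCompletion.pow_smul_top_eq_ker_eval hI, LinearMap.mem_ker, map_sub, sub_eq_zero]
    rw [AdicCompletion.algebraMap_apply]
    simp only [AdicCompletion.coe_eval, AdicCompletion.of_apply]
    exact ha.symm
  have h2 := smul_mem_pow_smul_top I L n _ h1 x
  rw [sub_smul, algebraMap_smul] at h2
  simp only [AdicCompletion.of_apply]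
  rw [← ha]
  change _ = Ideal.Quotient.mk (I ^ n • ⊤) a • Submodule.Quotient.mk (p := (I ^ n • ⊤ : Submodule A L)) x
  rw [AdicCompletion.mk_smul_mk, ← Submodule.Quotient.mk_smul, Submodule.mkQ_apply,
    Submodule.Quotient.eq]
  exact h2

theorem finite_of_complete (hI : I.FG) [IsAdicComplete I L]
    [Module.Finite A (L ⧸ (I • ⊤ : Submodule A L))] :
    Module.Finite (AdicCompletion I A) L := by
  haveI := finite_adicCompletion_hat I L
  let e : L ≃ₗ[AdicCompletion I A] AdicCompletion I L :=
    { (AdicCompletion.ofLinearEquiv I L) with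
      map_smul' := fun c x => by
        simpa using of_smul I L hI c x }
  exact Module.Finite.equiv e.symm

end

theorem main
    (A : Type u) [CommRing A] (I : Ideal A) (hI : I.FG)
    (M : ℕ → Type v) [∀ n, AddCommGroup (M n)] [∀ n, Module A (M n)] [∀ n, Module.Finite A (M n)]
    (f : ∀ n, M (n + 1) →ₗ[A] M n) (hf : ∀ n, Function.Surjective (f n))
    (hker : ∀ n, LinearMap.ker (f n) = I ^ (n + 1) • (⊤ : Submodule A (M (n + 1))))
    (L : Type v) [AddCommGroup L] [Module A L] (π : ∀ n, L →ₗ[A] M n)
    (hπ : ∀ n, f n ∘ₗ π (n + 1) = π n)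
    (hinj : ∀ x : L, (∀ n, π n x = 0) → x = 0)
    (hlift : ∀ y : (∀ n, M n), (∀ n, f n (y (n + 1)) = y n) → ∃ x : L, ∀ n, π n x = y n)
    [Module (AdicCompletion I A) L] [IsScalarTower A (AdicCompletion I A) L] :
    Module.Finite (AdicCompletion I A) L := by
  obtain ⟨hcomp, h2, -⟩ := Groth.Agent.Lib.Helper5.AdicLim.main A I hI M f hf hker L π hπ hinj hlift
  haveI := hcomp
  have h0 : LinearMap.ker (π 0) = I • (⊤ : Submodule A L) := by
    rw [(h2 0).2, zero_add, pow_one]
  haveI : Module.Finite A (L ⧸ (I • ⊤ : Submodule A L)) :=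
    Module.Finite.equiv
      ((LinearMap.quotKerEquivOfSurjective (π 0) (h2 0).1).symm ≪≫ₗ
        Submodule.quotEquivOfEq _ _ h0)
  exact finite_of_complete I L hI

end Groth.Agent.Lib.Helper5.AdicLimFin
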